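import Mathlib
import Cfsg.Agent.Lib.Helper58.UPair.Defs

/-!
# UPair (S5984), package [CARDK]
-/

set_option autoImplicit false
open scoped MatrixGroups Matrix

namespace Cfsg.Agent.Lib.Helper65.UPair

open Cfsg.Agent.Lib.Helper58.UPair

universe u

/-- **[CARDK]** -/
theorem pkgCardK : PkgCardK.{u} := by
  intro F _ _ q m hF hm
  classical
  have : Nonempty (Fin m) := ⟨⟨0, hm⟩⟩
  let ψ : GL (Fin m) F →* Fˣ :=
    (powMonoidHom (q - 1)).comp (Matrix.GeneralLinearGroup.det : GL (Fin m) F →* Fˣ)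
  have hker : Nat.card {A : GL (Fin m) F // (A : Matrix (Fin m) (Fin m) F).det ^ (q - 1) = 1} =
      Nat.card ψ.ker := by
    apply Nat.card_congr
    apply Equiv.subtypeEquivRight
    intro A
    rw [MonoidHom.mem_ker]
    simp only [ψ, MonoidHom.comp_apply, powMonoidHom_apply, Units.ext_iff, Units.val_pow_eq_pow_val,
      Units.val_one]
    rfl
  have hq2 : 2 ≤ q := by
    have h1 : 1 < Fintype.card F := Fintype.one_lt_card
    rw [hF] at h1
    by_contra h
    have : q = 0 ∨ q = 1 := by omega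
    rcases this with h0 | h0 <;> simp [h0] at h1
  have hcardU : Nat.card Fˣ = (q - 1) * (q + 1) := by
    rw [Nat.card_eq_fintype_card, Fintype.card_units, hF]
    obtain ⟨k, rfl⟩ : ∃ k, q = k + 2 := ⟨q - 2, by omega⟩
    have : (k + 2) ^ 2 = (k + 2 - 1) * (k + 2 + 1) + 1 := by
      have : k + 2 - 1 = k + 1 := by omega
      rw [this]; ring
    omega
  have hrange : Nat.card ψ.range = q + 1 := by
    have h1 : ψ.range = (powMonoidHom (q - 1) : Fˣ →* Fˣ).range := by
      ext y
      constructor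
      · rintro ⟨A, rfl⟩
        exact ⟨Matrix.GeneralLinearGroup.det A, rfl⟩
      · rintro ⟨r, rfl⟩
        obtain ⟨A, rfl⟩ := Matrix.GeneralLinearGroup.det_surjective (n := Fin m) r
        exact ⟨A, rfl⟩
    rw [h1, IsCyclic.card_powMonoidHom_range, hcardU, Nat.gcd_eq_right (Dvd.intro _ rfl)]
    exact Nat.mul_div_cancel_left _ (by omega)
  rw [hker, ← hrange, ← Subgroup.index_ker]
  exact Subgroup.card_mul_index ψ.ker

end Cfsg.Agent.Lib.Helper65.UPair
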